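import Mathlib
import Groth.Agent.Lib.Flatness.Criterion

/-!
# Flatness from flatness of the quotients by powers of an ideal of the target
-/

universe u

open TensorProduct

noncomputable section

namespace GrothLib.FlatAdicTarget

variable {A B : Type u} [CommRing A] [CommRing B] [Algebra A B] [IsNoetherianRing A]
  [IsNoetherianRing B] {M : Type u} [AddCommGroup M] [Module B M] [Module A M] [IsScalarTower A B M]
  [Module.Finite B M]

theorem flat_of_forall_quotient_pow (I : Ideal B) (hI : I ≤ Ideal.jacobson ⊥)
    (h : ∀ n : ℕ, Module.Flat A (M ⧸ (I ^ (n + 1) • (⊤ : Submodule B M)))) : Module.Flat A M := by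
  rw [Module.Flat.iff_lTensor_injective']
  intro J
  rw [injective_iff_map_eq_zero]
  intro x hx
  haveI := GrothLib.Flatness.finite_tensor (R := A) (S := B) (M := M) J
  suffices H : x ∈ (⨅ i : ℕ, I ^ i • ⊤ : Submodule B (M ⊗[A] J)) by
    rwa [Ideal.iInf_pow_smul_eq_bot_of_le_jacobson _ hI, Submodule.mem_bot] at H
  rw [Submodule.mem_iInf]
  intro n
  let N : Submodule B M := I ^ (n + 1) • ⊤
  haveI : Module.Flat A (M ⧸ N) := h n
  have hq : (N.mkQ.restrictScalars A).rTensor J x = 0 := by
    refine Module.Flat.lTensor_preserves_injective_linearMap (M := M ⧸ N) J.subtype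
      Subtype.val_injective ?_
    rw [map_zero, ← LinearMap.comp_apply, LinearMap.lTensor_comp_rTensor,
      ← LinearMap.rTensor_comp_lTensor, LinearMap.comp_apply, hx, map_zero]
  have hex : Function.Exact (N.subtype.restrictScalars A) (N.mkQ.restrictScalars A) :=
    LinearMap.exact_subtype_mkQ N
  obtain ⟨y, rfl⟩ := (rTensor_exact (R := A) J (f := N.subtype.restrictScalars A)
    (g := N.mkQ.restrictScalars A) hex N.mkQ_surjective x).1 hq
  refine Submodule.smul_mono_left (Ideal.pow_le_pow_right n.le_succ) ?_
  clear hx hq
  induction y using TensorProduct.induction_on with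
  | zero => rw [map_zero]; exact zero_mem _
  | add a b ha hb => rw [map_add]; exact add_mem ha hb
  | tmul m j =>
    rw [LinearMap.rTensor_tmul, LinearMap.restrictScalars_apply, Submodule.subtype_apply]
    have hm : (m : M) ∈ I ^ (n + 1) • (⊤ : Submodule B M) := m.2
    generalize (m : M) = z at hm ⊢
    refine Submodule.smul_induction_on hm (fun r hr w _ => ?_) (fun a b ha hb => ?_)
    · rw [← TensorProduct.smul_tmul']
      exact Submodule.smul_mem_smul hr trivial
    · rw [TensorProduct.add_tmul]; exact add_mem ha hb

end GrothLib.FlatAdicTarget
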